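import Cfsg.Agent.Omega.NOThreeL.Main
import Cfsg.Agent.Omega.NOThreeL.AFour.Act
import Cfsg.Agent.Omega.NOThreeL.ATwo.Main

/-!
# NO-3L A4: the frame (`V_P` a sum of natural modules, nothing about offenders)

`FrA S P H M` : `DataZ S`, `PairA S P H`, `M : NatK F S P (zl S P) ⊥ k`.

* `cent_le` : `C_G(z) ≤ N_G(Z)` for `z ∈ Z#` (`C_Z(P) = 1` for all `P ∈ P*(S)`);
* `FrA.exists_b` : every `u ∈ U_H` acts on `V_P` as `up b`; `FrA.exists_ne` : `b i ≠ 0` for some `u`;
* `FrA.line_le` : the lines are contained in `U_H`;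
* `FrA.ez` : `z ∈ Z#` has coordinates `![c, 0]`, `c ≠ 0`; `FrA.exists_full` : full vectors are `P`-conjugate into `Z`;
* `FrA.fix` : `t ∈ H` fixing a full vector: `[V_P, V_P ^ t] = 1`;
* `FrA.two_elt` : `a ∈ V_P`, `b` an involution in `C_G(z)`: `a b` has order a power of 2.
-/

set_option autoImplicit false
set_option Elab.async false

namespace Cfsg.Agent.Omega.NOThreeL.AFour

open Subgroup Cfsg Cfsg.Agent.ZN Cfsg.Agent.Omega.FrameNOFF
open Cfsg.Agent.ZN.ChoiceBase hiding mem_zc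
open Cfsg.Agent.Omega.MinPar Cfsg.Agent.Omega.FFThm Cfsg.Agent.Omega.Node.NO3L Cfsg.Agent.Omega.Frame
open Cfsg.Agent.Omega.NOThreeL.Basic Cfsg.Agent.Omega.NOThreeL.Main
open Cfsg.Agent.MinSimple.VModule (le_normalizer_zl zl_le zc_le_zl zc_le mem_zc zl_comm zl_sq le_o2 o2_isPGroup
  le_normalizer_o2 le_centralizer_zc o2_le normalizer_le_normalizer_zc)
open Cfsg.Agent.Lib.SL2Mat
open Cfsg.Agent.Omega.NoFF.Basic (conj_conj mem_conj conj_le_iff)
open Cfsg.Agent.Omega.NOThreeL.Pair (conj_eq_of_mem)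
open Cfsg.Agent.Omega.NatPair (ap ap_mul ap_one ap_inv_ap ap_ap_inv exists_ap ap_add)
open Cfsg.Agent.Omega.IId (Ind cj_mem cj_mem' e_inj e_one e_inv sg sg_spec fac exists_fac exists_trans line
  mem_line eq_one_of_cent)
open Cfsg.Agent.Omega.NOThreeL.ATwo (Up e_cm b_eq_zero_iff)
open scoped Pointwise

universe u

variable {G : Type u} [Group G] [Finite G] {S : Sylow 2 G} {P H : Subgroup G} {F : Type} [Field F] {k : ℕ}

/-- `C_G(z) ≤ N_G(Z)` for `z ∈ Z#`. -/
theorem cent_le (D : DataZ (S : Subgroup G)) {z : G} (hz : z ∈ zc (S : Subgroup G)) (hz1 : z ≠ 1) :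
    centralizer ({z} : Set G) ≤ normalizer (zc (S : Subgroup G) : Set G) := by
  obtain ⟨-, hzc, hz2⟩ := mem_zc.1 hz
  have hS : (S : Subgroup G) ≤ centralizer ({z} : Set G) := fun s hs =>
    mem_centralizer_singleton_iff.2 (hzc s hs)
  have hL := isLoc_centralizer S hz2 hz1 hS
  by_contra hnot
  obtain ⟨P, hP, hPL, hPn⟩ := hL.exists_not_le S (M := normalizer (zc (S : Subgroup G) : Set G))
    (inf_le_right.trans (normalizer_le_normalizer_zc _)) hnot
  have h1 := D.cz P ⟨hP, hPn⟩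
  have h2 : z ∈ zc (S : Subgroup G) ⊓ centralizer (P : Set G) := by
    refine ⟨hz, mem_centralizer_iff.2 fun p hp => ?_⟩
    exact mem_centralizer_singleton_iff.1 (hPL hp)
  rw [h1, mem_bot] at h2
  exact hz1 h2

/-- The situation. -/
structure FrA (S : Sylow 2 G) (P H : Subgroup G) (M : NatK F (S : Subgroup G) P (zl (S : Subgroup G) P) ⊥ k) : Prop
    where
  hc : IsCharacteristicTwoType G
  ne : (S : Subgroup G) ≠ ⊥
  D : DataZ (S : Subgroup G)
  E : PairA (S : Subgroup G) P H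
  pos : 0 < k

namespace FrA

variable {M : NatK F (S : Subgroup G) P (zl (S : Subgroup G) P) ⊥ k} (h : FrA S P H M)
include h

theorem SP : (S : Subgroup G) ≤ P := h.E.par.le

theorem SH : (S : Subgroup G) ≤ H := h.E.long.loc.le

theorem US : zl (S : Subgroup G) H ≤ (S : Subgroup G) := IsLong.zl_le_S h.hc h.E.long

theorem UP : zl (S : Subgroup G) H ≤ P := h.US.trans h.SP

theorem VS : zl (S : Subgroup G) P ≤ (S : Subgroup G) := IsParS.zl_le_S h.hc h.E.par

theorem VH : zl (S : Subgroup G) P ≤ H := h.VS.trans h.SH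

theorem ab : ∀ u ∈ zl (S : Subgroup G) H, ∀ v ∈ zl (S : Subgroup G) H, u * v = v * u := by
  intro u hu v hv
  have h1 := (NOThreeL.Pair.zl_abel h.hc S h.E.long.loc).1
  exact mem_centralizer_iff.1 (h1 hv) u hu

theorem sq : ∀ u ∈ zl (S : Subgroup G) H, u * u = 1 := by
  intro u hu
  have h1 := (mem_zc.1 (h.E.long.loc.zl_le S h.hc hu)).2.2
  rwa [pow_two] at h1

theorem nrm : ∀ x ∈ H, ∀ u ∈ zl (S : Subgroup G) H, x * u * x⁻¹ ∈ zl (S : Subgroup G) H :=
  fun x hx u hu => (mem_normalizer_iff.1 (le_normalizer_zl _ _ hx) u).1 hu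

theorem quad : Quad (S : Subgroup G) P (zl (S : Subgroup G) H) where
  SP := h.SP
  VS := h.VS
  US := h.US
  SU := h.SH.trans (le_normalizer_zl _ _)
  ab := h.ab
  sq := h.sq

section char2

variable [CharP F 2]

theorem exists_b {u : G} (hu : u ∈ zl (S : Subgroup G) H) : ∃ b : Fin k → F, Up M u b :=
  h.quad.exists_up M hu

omit [CharP F 2] in
/-- `U_H` does not centralise a factor. -/
theorem not_cent (i : Fin k) : ¬ zl (S : Subgroup G) H ≤ centralizer (fac M i : Set G) := by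
  intro hle
  refine h.E.ne' (fun u hu => ?_)
  -- all factors
  have key : ∀ j, u ∈ centralizer (fac M j : Set G) := by
    intro j
    obtain ⟨t, ht, htf⟩ := exists_trans M h.SP i j
    have hu' : t⁻¹ * u * t ∈ zl (S : Subgroup G) H := by
      have h1 := h.nrm t⁻¹ (inv_mem (h.SH ht)) u hu
      rwa [inv_inv] at h1
    have h2 := hle hu'
    rw [← mem_cj, cj_centralizer, htf] at h2
    exact h2
  rw [mem_centralizer_iff]
  intro v hv
  have h1 : u * v * u⁻¹ = v := by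
    refine e_inj M (cj_mem (h.UP hu) hv) hv (funext fun i => ?_)
    obtain ⟨a, ha, hae, hap⟩ := IId.exists_component M hv i
    have h2 := mem_centralizer_iff.1 (key i) a ha
    have h3 : v = a * (a⁻¹ * v) := by group
    have h4 := h.quad.loc M hu i hv ha.1 hae.symm
    rw [h4]
    have h5 : u * a * u⁻¹ = a := by rw [← h2]; group
    rw [h5, hae]
  calc v * u = u * v * u⁻¹ * u := by rw [h1]
    _ = u * v := by group

theorem exists_ne (i : Fin k) : ∃ u ∈ zl (S : Subgroup G) H, ∃ b : Fin k → F, Up M u b ∧ b i ≠ 0 := by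
  obtain ⟨u, hu, hn⟩ := SetLike.not_le_iff_exists.1 (h.not_cent i)
  obtain ⟨b, hb⟩ := h.exists_b hu
  exact ⟨u, hu, b, hb, fun h0 => hn ((b_eq_zero_iff (M := M) (h.UP hu) hb i).1 h0)⟩

/-- The lines are contained in `U_H`. -/
theorem line_le (i : Fin k) {v : G} (hv : v ∈ zl (S : Subgroup G) P) {c : F} (he : M.e v = Pi.single i ![c, 0]) :
    v ∈ zl (S : Subgroup G) H := by
  obtain ⟨u, hu, b, hb, hbi⟩ := h.exists_ne i
  obtain ⟨n, hn, hne⟩ := M.surj (Pi.single i ![0, c / b i])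
  have h1 : v = u * n * u⁻¹ * n⁻¹ := by
    refine e_inj M hv (mul_mem (cj_mem (h.UP hu) hn) (inv_mem hn)) (funext fun j => ?_)
    rw [e_cm (h.UP hu) hn hb j, he, hne]
    by_cases hj : j = i
    · subst hj
      rw [Pi.single_eq_same, Pi.single_eq_same]
      apply NatPair.ext2
      · change c = b j * (c / b j)
        field_simp
      · rfl
    · rw [Pi.single_eq_of_ne hj, Pi.single_eq_of_ne hj]
      apply NatPair.ext2 <;> simp
  rw [h1]
  exact h.quad.cm_mem hu (h.VS hn)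

omit [CharP F 2] in
/-- Coordinates of the elements of `Z`. -/
theorem ez {z : G} (hz : z ∈ zc (S : Subgroup G)) (i : Fin k) : M.e z i 1 = 0 := by
  obtain ⟨t, ht, htA⟩ := M.unip fun _ => 1
  have hzV : z ∈ zl (S : Subgroup G) P := zc_le_zl _ _ hz
  have h1 := e_cm (h.SP ht) hzV htA i
  have h2 := (mem_zc.1 hz).2.1 t ht
  have h3 : t * z * t⁻¹ * z⁻¹ = 1 := by rw [h2]; group
  rw [h3, e_one] at h1
  have := congrFun h1 0
  simpa using this.symm

omit [CharP F 2] in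
theorem ez_ne {z : G} (hz : z ∈ zc (S : Subgroup G)) (hz1 : z ≠ 1) (i : Fin k) : M.e z i ≠ 0 := fun h0 =>
  hz1 (eq_one_of_cent M (zc_le_zl _ _ hz) (mem_zc.1 hz).2.1 h0)

omit [CharP F 2] in
theorem exists_z : ∃ z ∈ zc (S : Subgroup G), z ≠ 1 := by
  have hne : zc (S : Subgroup G) ≠ ⊥ := ZN.ChoiceSit.zc_ne_bot S.isPGroup' h.ne
  by_contra hcon
  push Not at hcon
  exact hne ((eq_bot_iff_forall _).2 hcon)

omit [CharP F 2] in
/-- A full vector is `P`-conjugate to an element of `Z#`. -/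
theorem exists_full {v : G} (hv : v ∈ zl (S : Subgroup G) P) (hf : ∀ i, M.e v i ≠ 0) :
    ∃ b ∈ P, ∃ z ∈ zc (S : Subgroup G), z ≠ 1 ∧ b * z * b⁻¹ = v := by
  obtain ⟨z, hz, hz1⟩ := h.exists_z
  choose A hA using fun i => exists_ap (h.ez_ne hz hz1 i) (hf i)
  obtain ⟨b, hb, hbA⟩ := M.lift A
  refine ⟨b, hb, z, hz, hz1, ?_⟩
  refine e_inj M (cj_mem hb (zc_le_zl _ _ hz)) hv (funext fun i => ?_)
  rw [hbA.1 z (zc_le_zl _ _ hz) i, hA i]

omit [CharP F 2] in
/-- **An element fixing a full vector of `V`**: `V` and `V ^ t` commute. -/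
theorem fix {v t : G} (hv : v ∈ zl (S : Subgroup G) P) (hf : ∀ i, M.e v i ≠ 0) (ht : t * v = v * t) :
    ∀ w ∈ zl (S : Subgroup G) P, ∀ w' ∈ zl (S : Subgroup G) P, t * w * t⁻¹ * w' = w' * (t * w * t⁻¹) := by
  obtain ⟨b, hb, z, hz, hz1, hbz⟩ := h.exists_full hv hf
  -- `n = b⁻¹ t b ∈ N_G(Z)`
  have hn : b⁻¹ * t * b ∈ normalizer (zc (S : Subgroup G) : Set G) := by
    refine cent_le h.D hz hz1 (mem_centralizer_singleton_iff.2 ?_)
    have e : z = b⁻¹ * v * b := by rw [← hbz]; group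
    rw [e]
    calc b⁻¹ * t * b * (b⁻¹ * v * b) = b⁻¹ * (t * v) * b := by group
      _ = b⁻¹ * (v * t) * b := by rw [ht]
      _ = b⁻¹ * v * b * (b⁻¹ * t * b) := by group
  have hnQ : b⁻¹ * t * b ∈ normalizer (o2 (CZ (S : Subgroup G)) : Set G) :=
    (NoFF.LinesPlug.normalizer_le_normalizer_centralizer' _).trans (normalizer_le_normalizer_o2' _) hn
  set n := b⁻¹ * t * b with hnn
  have htb : t * b = b * n := by rw [hnn]; group
  have hQ : MulAut.conj (t * b) • o2 (CZ (S : Subgroup G)) = MulAut.conj b • o2 (CZ (S : Subgroup G)) := by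
    rw [htb, ← conj_conj, conj_eq_of_mem hnQ]
  have h1 := Basic.comm_of_le h.hc h.D.toData (x := b) (y := t * b) (by
      rw [hQ]; exact conj_le_iff.2 (WP_le_Q h.D.toData)) (by
      rw [← hQ]; exact conj_le_iff.2 (WP_le_Q h.D.toData))
  have hVb : MulAut.conj b • zl (S : Subgroup G) P = zl (S : Subgroup G) P :=
    conj_eq_of_mem (le_normalizer_zl _ _ hb)
  have h2 : zl (S : Subgroup G) P ≤ MulAut.conj b • WP (S : Subgroup G) := by
    rw [← hVb]
    exact conj_le_iff.2 (zl_le_WP h.E.par)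
  intro w hw w' hw'
  have h3 : t * w * t⁻¹ ∈ MulAut.conj (t * b) • WP (S : Subgroup G) := by
    rw [← conj_conj, mem_conj]
    have e : t⁻¹ * (t * w * t⁻¹) * t = w := by group
    rw [e]
    exact h2 hw
  exact mem_centralizer_iff.1 (h1 (h2 hw')) _ h3

omit [CharP F 2] in
/-- `a ∈ V`, `b` an involution or 1 in `C_G(z)`. -/
theorem two_elt {a b z : G} (ha : a ∈ zl (S : Subgroup G) P) (hz : z ∈ zc (S : Subgroup G)) (hz1 : z ≠ 1)
    (hbz : b * z = z * b) (hb : b * b = 1) : ∃ n : ℕ, (a * b) ^ 2 ^ n = 1 := by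
  have hbn : b ∈ normalizer (o2 (CZ (S : Subgroup G)) : Set G) :=
    (NoFF.LinesPlug.normalizer_le_normalizer_centralizer' _).trans (normalizer_le_normalizer_o2' _)
      (cent_le h.D hz hz1 (mem_centralizer_singleton_iff.2 hbz))
  have haQ : a ∈ o2 (CZ (S : Subgroup G)) := h.D.low P h.E.par ha
  have h1 : (a * b) ^ 2 ∈ o2 (CZ (S : Subgroup G)) := by
    have hb' : b⁻¹ = b := inv_eq_of_mul_eq_one_left hb
    have e : (a * b) ^ 2 = a * (b * a * b⁻¹) := by
      rw [hb', pow_two]; group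
    rw [e]
    exact mul_mem haQ ((mem_normalizer_iff.1 hbn _).1 haQ)
  obtain ⟨n, hn⟩ := o2_isPGroup (CZ (S : Subgroup G)) ⟨_, h1⟩
  refine ⟨n + 1, ?_⟩
  have h2 : ((a * b) ^ 2) ^ 2 ^ n = 1 := congrArg Subtype.val hn
  rw [← pow_mul] at h2
  rw [pow_succ, mul_comm (2 ^ n) 2]
  exact h2

end char2

end FrA

end Cfsg.Agent.Omega.NOThreeL.AFour
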