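import Cfsg.Agent.Omega.NOThreeL.AFour.Main
import Cfsg.Agent.Omega.NOThreeL.AFour.Two

/-!
# NO-3L A4: no pair (A) with `V_P` a sum of natural `SL₂(2)`-modules
-/

set_option autoImplicit false
set_option Elab.async false

namespace Cfsg.Agent.Omega.NOThreeL.AFour

open Subgroup Cfsg Cfsg.Agent.ZN Cfsg.Agent.Omega.FrameNOFF
open Cfsg.Agent.Omega.MinPar Cfsg.Agent.Omega.FFThm Cfsg.Agent.Omega.Node.NO3L Cfsg.Agent.Omega.Frame
open Cfsg.Agent.Omega.NOThreeL.Basic Cfsg.Agent.Omega.NOThreeL.Main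

universe u

/-- **`NatTwo`** (input `FFThm.Stmt` only for `NoOver`). -/
theorem natTwo_of (hFF : FFThm.Stmt.{u}) : NatTwo.{u} := by
  intro G _ _ hG S D P H E F _ _ _ k hk hF M
  have h1 := DataZ.cv_eq hG.char2 D E.par
  have M' := M
  rw [h1] at M'
  have htwo : ∀ x : F, x = 0 ∨ x = 1 := by
    intro x
    by_contra hx
    push Not at hx
    have h2 : Function.Injective (fun i : Fin 3 => ![(0 : F), 1, x] i) := by
      intro i j hij
      fin_cases i <;> fin_cases j <;> simp_all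
    have h3 := Nat.card_le_card_of_injective _ h2
    rw [Nat.card_fin, hF] at h3
    omega
  have h : FrA S P H M' := ⟨hG.char2, hG.sylow_ne_bot S, D, E, hk⟩
  have hoff := h.off_of_ind (ind_two hG.char2 D E htwo hk M')
  obtain ⟨hn, -, hoff', he⟩ := PairA.off_of hG.char2 hFF E hoff
  exact ATwo.false_of_exact hG D ⟨E, hoff, hoff', hn, he⟩ hk M

end Cfsg.Agent.Omega.NOThreeL.AFour
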