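import Cfsg.Agent.Omega.NO3b.Union.Dich
import Cfsg.Agent.Omega.NO3b.TI
import Cfsg.Agent.Omega.NOne.Flat.OffMod
import Cfsg.Agent.Omega.NOThreeL.Basic
import Cfsg.Agent.Omega.NOThreeL.DataLow

/-!
# NO-3L, socket A4, part (A4b) of #16740: `V_P` not FF (image sense) commutes with every `U_H`

`P ∈ P*(S)`, `V_P ≤ O₂(C_G(Z))`, no offender (image sense) on `V_P` in `S`.

* `OffAll` : THEOREM OFF (#16468, #17060, #17127) for all `Flat.Hyp V F`;
* `lin_of_alpha`, `comm_of_alpha` : (ALPHA) the lines `V^x`, `x ∈ H`, commute for every local `H ≥ S` (THEOREM TI);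
* `not_beta` : (BETA) is impossible;
* `comm_of_notFF` : `[V_P, U_H] = 1` for all local `H ≥ S`; `not_pairA` : no `PairA S P H`.

No `C_Z(P) = 1`, no hypothesis on `⟨P, C_G(Z)⟩`: for all of NO-3L, box R included.
-/

set_option autoImplicit false
set_option linter.unusedSectionVars false

namespace Cfsg.Agent.Omega.NOThreeL.AFour

open Subgroup Cfsg Cfsg.Agent.ZN Cfsg.Agent.ZN.ChoiceBase Cfsg.Agent.Omega.MinPar Cfsg.Agent.Omega.Frame
open Cfsg.Agent.Omega.NO3b Cfsg.Agent.Omega.NO3b.Union Cfsg.Agent.Omega.NOne.Flat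
open Cfsg.Agent.Omega.FFThm (OffM)
open Cfsg.Agent.Omega.Node.NO3L Cfsg.Agent.Omega.NOThreeL.Basic
open Cfsg.Agent.Omega.FrameNOFF (CZ)

universe u

/-- **THEOREM OFF** -/
def OffAll : Prop :=
  ∀ (G : Type u) [Group G] [Finite G] (V F : Subgroup G), Hyp V F → ∀ E0 : Subgroup G, F ≤ E0 →
    E0 ≤ EE V F → F.relIndex E0 ≤ (centralizer (E0 : Set G)).relIndex (WW V F)

variable {G : Type u} [Group G] [Finite G] {S : Sylow 2 G} {P M H : Subgroup G}

/-- ALPHA gives the hypotheses of THEOREM TI. -/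
theorem lin_of_alpha (hc : IsCharacteristicTwoType G) (a : Alpha S P M) : TI.Lin (zl (S : Subgroup G) M) where
  sq := Union.V_sq a.inv.toInv
  comm := Union.V_comm a.inv.toInv
  nff := a.nff
  char2 := fun _ hD hD1 => NOne.LemmaT.char2_centralizer hc ((Union.V_two a.inv.toInv).to_le hD) hD1
  o2n := fun _ hD _ => (a.inv.toInv.o2_le hD).trans (Union.M_le a.inv.toInv)
  pt := fun D hD hD1 => Or.inl (a.good D hD hD1)

/-- **ALPHA**: `[V_P, U_H] = 1`. -/
theorem comm_of_alpha (hc : IsCharacteristicTwoType G) (a : Alpha S P M) (hH : IsLoc (S : Subgroup G) H) :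
    zl (S : Subgroup G) P ≤ centralizer (zl (S : Subgroup G) H : Set G) := by
  have hL := lin_of_alpha hc a
  have hVS : zl (S : Subgroup G) M ≤ S := Union.V_le_S a.inv.toInv
  have hO : o2 H ≤ normalizer (zl (S : Subgroup G) M : Set G) :=
    (hH.o2_le S).trans (a.inv.SM.trans (Union.M_le a.inv.toInv))
  have key : ∀ x ∈ H, cj x (zl (S : Subgroup G) M) ≤ centralizer (zl (S : Subgroup G) M : Set G) := by
    intro x hx
    have h1 := hL.comm_of_le_o2 (hVS.trans hH.le) (hH.char2 S hc) hO hx H.one_mem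
    rwa [cj_one] at h1
  have h2 : zl (S : Subgroup G) H ≤ centralizer (zl (S : Subgroup G) M : Set G) :=
    iSup_le fun x => (cj_mono (x : G) (Union.Z_le a.inv.toInv)).trans (key x x.2)
  rw [Subgroup.le_centralizer_iff]
  exact h2.trans (centralizer_le (Union.VP_le a.inv.toInv))

/-- **BETA** is impossible if `V_P ≤ O₂(C_G(Z))`. -/
theorem not_beta (h : Cf S P) (hI : InvU (S : Subgroup G) P M)
    (low : zl (S : Subgroup G) P ≤ o2 (CZ (S : Subgroup G))) {F : Subgroup G}
    (hF : Hyp (zl (S : Subgroup G) M) F)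
    (hoff : ∀ E0 : Subgroup G, F ≤ E0 → E0 ≤ EE (zl (S : Subgroup G) M) F →
      F.relIndex E0 ≤ (centralizer (E0 : Set G)).relIndex (WW (zl (S : Subgroup G) M) F))
    (hW : WW (zl (S : Subgroup G) M) F ≤ S) : WW (zl (S : Subgroup G) M) F ≤ o2 P := by
  -- `Z ≤ F`
  have hZF : zc (S : Subgroup G) ≤ F := by
    rw [← hF.cent_VW]
    exact le_inf (Union.Z_le hI.toInv) fun z hz => mem_centralizer_iff.2 fun w hw =>
      (ChoiceBase.mem_zc.1 hz).2.2 w (hW hw)
  have hCF : centralizer (F : Set G) ≤ CZ (S : Subgroup G) := centralizer_le hZF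
  -- `V_P ≤ E`
  have h1 : zl (S : Subgroup G) P ≤ centralizer (F : Set G) :=
    (Union.VP_le hI.toInv).trans (hF.comm.trans (centralizer_le hF.F_le_V))
  have h2 : centralizer (F : Set G) ⊓ o2 (CZ (S : Subgroup G)) ≤ o2 (centralizer (F : Set G)) :=
    ChoiceSit.le_o2 ((ChoiceSit.isPGroup_o2 _).to_le inf_le_right) inf_le_left
      (NO3S.NotFF.normalizer_inf le_normalizer (hCF.trans (ChoiceSit.le_normalizer_o2 _)))
  have hE : zl (S : Subgroup G) P ≤ EE (zl (S : Subgroup G) M) F :=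
    le_inf (Union.VP_le hI.toInv) ((le_inf h1 low).trans h2)
  have h3 := (hF.cent_of_le_EE hoff (h.noOff _ hW) hE).1
  rw [← h.S_inf_centralizer]
  exact le_inf hW h3

/-- **(A4b)**: `V_P` not FF (image sense), `V_P ≤ O₂(C_G(Z))` ⟹ `[V_P, U_H] = 1` for all local `H ≥ S`. -/
theorem comm_of_cf (hOff : OffAll.{u}) (h : Cf S P) (low : zl (S : Subgroup G) P ≤ o2 (CZ (S : Subgroup G)))
    (hH : IsLoc (S : Subgroup G) H) :
    zl (S : Subgroup G) P ≤ centralizer (zl (S : Subgroup G) H : Set G) := by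
  obtain ⟨M, c, -, ha | ⟨F, hF, hW, hWP⟩⟩ := h.exists_chain
  · exact comm_of_alpha h.char2 ha hH
  · exact absurd (not_beta h (c.invU h) low hF (hOff G _ _ hF) hW) hWP

/-- **(A4b)** in the frame of NO-3L. -/
theorem comm_of_notFF (hOff : OffAll.{u}) (hc : IsCharacteristicTwoType G) (D : DataLow (S : Subgroup G))
    (hP : IsParS (S : Subgroup G) P) (hn : ∀ A : Subgroup G, A ≤ P → ¬ OffM (zl (S : Subgroup G) P) A)
    (hH : IsLong (S : Subgroup G) H) :
    zl (S : Subgroup G) P ≤ centralizer (zl (S : Subgroup G) H : Set G) :=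
  comm_of_cf hOff ⟨hc, hP, fun A hA => hn A (hA.trans hP.isLoc.le)⟩ (D.low P hP) hH.loc

/-- No `PairA` with `V_P` not FF. -/
theorem not_pairA (hOff : OffAll.{u}) (hc : IsCharacteristicTwoType G) (D : DataLow (S : Subgroup G))
    (hn : ∀ A : Subgroup G, A ≤ P → ¬ OffM (zl (S : Subgroup G) P) A) :
    ¬ PairA (S : Subgroup G) P H := fun h => h.ne (comm_of_notFF hOff hc D h.par hn h.long)

/-- `PairA` gives an offender (image sense) on `V_P`. -/
theorem exists_offM (hOff : OffAll.{u}) (hc : IsCharacteristicTwoType G) (D : DataLow (S : Subgroup G))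
    (h : PairA (S : Subgroup G) P H) : ∃ A : Subgroup G, A ≤ P ∧ OffM (zl (S : Subgroup G) P) A := by
  by_contra hcon
  push Not at hcon
  exact not_pairA hOff hc D hcon h

end Cfsg.Agent.Omega.NOThreeL.AFour
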